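import Mathlib
import Cfsg.Prelude.Def_Blocks

/-!
# Groups with two maximal tori: the data shared by `GL₂(q)` (`Q = q`) and `GU₂(q)` (`Q = -q`)

`A` is cyclic of order `|Q - 1|`, `B` of order `Q ^ 2 - 1`.  The tori are the images of `T : A × A` and
`S : B`; the centre is the image of the diagonal of `A`.  The functions `lin`, `st`, `ps`, `cu` carry the
signs of the formulas in `Q`: for the unitary group the last three are negatives of characters.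
-/

set_option autoImplicit false

namespace Cfsg.Agent.H36.TwoTori

universe v

variable {H A B : Type v} [Group H] [Fintype H] [CommGroup A] [Fintype A] [CommGroup B] [Fintype B]

/-- Trivial on the elements of odd order. -/
def OddTriv {C : Type*} [Monoid C] (θ : C →* ℂˣ) : Prop := ∀ z, Odd (orderOf z) → θ z = 1

open scoped Classical in
/-- The data. -/
structure Table (H A B : Type v) [Group H] [Fintype H] [CommGroup A] [Fintype A] [CommGroup B]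
    [Fintype B] (Q : ℤ) where
  /-- the sign of the characters -/
  σ : ℤ
  σ_pm : σ = 1 ∨ σ = -1
  σ_Q : 0 < σ * Q
  odd_Q : Odd Q
  three_le : 3 ≤ σ * Q
  cyclicA : IsCyclic A
  cyclicB : IsCyclic B
  cardA : (Nat.card A : ℤ) = σ * (Q - 1)
  cardB : (Nat.card B : ℤ) = Q ^ 2 - 1
  incl : A →* B
  norm : B →* A
  incl_injective : Function.Injective incl
  incl_norm : ∀ y, incl (norm y) = y ^ (Q + 1)
  T : A × A →* H
  S : B →* H
  T_injective : Function.Injective T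
  S_injective : Function.Injective S
  S_incl : ∀ a, S (incl a) = T (a, a)
  T_center : ∀ a, T (a, a) ∈ Subgroup.center H
  center_le : ∀ x ∈ Subgroup.center H, ∃ a, T (a, a) = x
  /-- the transvection -/
  uni : H
  uni_ne : uni ≠ 1
  uni_pow : uni ^ Q.natAbs = 1
  swapT : ∃ w : H, ∀ a b, w * T (a, b) * w⁻¹ = T (b, a)
  frobS : ∀ y, IsConj (S y) (S (y ^ Q))
  classes : ∀ x : H, (∃ a, T (a, a) = x) ∨ (∃ a, IsConj (T (a, a) * uni) x) ∨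
    (∃ a b, a ≠ b ∧ IsConj (T (a, b)) x) ∨ ∃ y, y ∉ incl.range ∧ IsConj (S y) x
  sum_eq : ∀ f : H → ℂ, Cfsg.IsClassFunction H f → ∑ x : H, f x =
    ∑ a : A, (f (T (a, a)) + ((Q : ℂ) ^ 2 - 1) * f (T (a, a) * uni)) +
      (Q : ℂ) * ((Q : ℂ) + 1) / 2 * (∑ p : A × A, if p.1 = p.2 then 0 else f (T p)) +
      (Q : ℂ) * ((Q : ℂ) - 1) / 2 * (∑ y : B, if y ∈ incl.range then 0 else f (S y))
  lin : (A →* ℂˣ) → H → ℂ
  st : (A →* ℂˣ) → H → ℂ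
  ps : (A →* ℂˣ) → (A →* ℂˣ) → H → ℂ
  cu : (B →* ℂˣ) → H → ℂ
  irr_lin : ∀ α, Cfsg.IsIrrCharacter H (lin α)
  irr_st : ∀ α, Cfsg.IsIrrCharacter H ((σ : ℂ) • st α)
  irr_ps : ∀ α β, α ≠ β → Cfsg.IsIrrCharacter H ((σ : ℂ) • ps α β)
  irr_cu : ∀ θ : B →* ℂˣ, (∃ y, θ (y ^ Q) ≠ θ y) → Cfsg.IsIrrCharacter H ((σ : ℂ) • cu θ)
  lin_centre : ∀ α a, lin α (T (a, a)) = (α a : ℂ) * α a
  lin_uni : ∀ α a, lin α (T (a, a) * uni) = (α a : ℂ) * α a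
  lin_T : ∀ α a b, a ≠ b → lin α (T (a, b)) = (α a : ℂ) * α b
  lin_S : ∀ α y, y ∉ incl.range → lin α (S y) = (α (norm y) : ℂ)
  st_centre : ∀ α a, st α (T (a, a)) = (Q : ℂ) * ((α a : ℂ) * α a)
  st_uni : ∀ α a, st α (T (a, a) * uni) = 0
  st_T : ∀ α a b, a ≠ b → st α (T (a, b)) = (α a : ℂ) * α b
  st_S : ∀ α y, y ∉ incl.range → st α (S y) = -(α (norm y) : ℂ)
  ps_centre : ∀ α β a, ps α β (T (a, a)) = ((Q : ℂ) + 1) * ((α a : ℂ) * β a)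
  ps_uni : ∀ α β a, ps α β (T (a, a) * uni) = (α a : ℂ) * β a
  ps_T : ∀ α β a b, a ≠ b → ps α β (T (a, b)) = (α a : ℂ) * β b + (α b : ℂ) * β a
  ps_S : ∀ α β y, y ∉ incl.range → ps α β (S y) = 0
  cu_centre : ∀ θ a, cu θ (T (a, a)) = ((Q : ℂ) - 1) * (θ (incl a) : ℂ)
  cu_uni : ∀ θ a, cu θ (T (a, a) * uni) = -(θ (incl a) : ℂ)
  cu_T : ∀ θ a b, a ≠ b → cu θ (T (a, b)) = 0
  cu_S : ∀ θ y, y ∉ incl.range → cu θ (S y) = -((θ y : ℂ) + (θ (y ^ Q) : ℂ))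
  block : ∀ M : Ideal Cfsg.AlgInt, Cfsg.IsPModular 2 M → ∀ ψ : Cfsg.IrrCharacter H,
    ψ ∈ Cfsg.principalBlock M H ↔
      (∃ α, OddTriv α ∧ (ψ : H → ℂ) = lin α) ∨
      (∃ α, OddTriv α ∧ (ψ : H → ℂ) = (σ : ℂ) • st α) ∨
      (∃ α β, OddTriv α ∧ OddTriv β ∧ α ≠ β ∧ (ψ : H → ℂ) = (σ : ℂ) • ps α β) ∨
      ∃ θ : B →* ℂˣ, OddTriv θ ∧ (∃ y, θ (y ^ Q) ≠ θ y) ∧ (ψ : H → ℂ) = (σ : ℂ) • cu θ

end Cfsg.Agent.H36.TwoTori
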