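import Cfsg.Agent.H36.TwoTori.Table
import Cfsg.Agent.H3.SDOrder.Provider

/-!
# `GL₂(q)`, `q` odd, has the table
-/

set_option autoImplicit false
set_option linter.unusedSectionVars false
set_option linter.style.haveILetI false

namespace Cfsg.Agent.H36.TwoTori

open Matrix Finset Cfsg.Agent.H53 Cfsg.Agent.H3.SDOrder

universe v

variable {F : Type v} [Field F]

local notation "G2" => Matrix.GeneralLinearGroup (Fin 2) F
local notation "M2" => Matrix (Fin 2) (Fin 2) F

/-- The split torus. -/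
noncomputable def splitHom : Fˣ × Fˣ →* G2 where
  toFun p := upGL p.1 p.2 0
  map_one' := upGL_one
  map_mul' p r := by apply Linear.GL_ext_two <;> simp [coe_upGL, Linear.mul_two_apply]

theorem coe_splitHom (a b : Fˣ) :
    ((splitHom (a, b) : G2) : M2) = !![(a : F), 0; 0, (b : F)] := by
  simp [splitHom, coe_upGL]

theorem splitHom_diag (a : Fˣ) : (splitHom (a, a) : G2) = scalarGL a := by
  apply Linear.GL_ext_two <;> simp [coe_splitHom, coe_scalarGL]

theorem splitHom_diag_uGL (a : Fˣ) : (splitHom (a, a) : G2) * uGL = upGL a a a := by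
  apply Linear.GL_ext_two <;> simp [uGL, coe_upGL, coe_splitHom, Linear.mul_two_apply]

/-- The exchange of the two lines. -/
noncomputable def exch : G2 := Linear.glOfDet !![(0 : F), 1; 1, 0] (by simp [Matrix.det_fin_two_of])

theorem exch_splitHom (a b : Fˣ) : exch * (splitHom (a, b) : G2) * exch⁻¹ = splitHom (b, a) := by
  rw [mul_inv_eq_iff_eq_mul]
  apply Linear.GL_ext_two <;> simp [exch, coe_splitHom, Linear.mul_two_apply]

variable {δ : F}

/-- The norm on the anisotropic torus. -/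
noncomputable def normHom (hδ : ¬ IsSquare δ) : (Quad δ)ˣ →* Fˣ :=
  Matrix.GeneralLinearGroup.det.comp (torusHom hδ)

theorem normHom_val (hδ : ¬ IsSquare δ) (z : (Quad δ)ˣ) : (normHom hδ z : F) =
    (z : Quad δ).re * (z : Quad δ).re - δ * ((z : Quad δ).im * (z : Quad δ).im) := by
  rw [normHom, MonoidHom.comp_apply, Matrix.GeneralLinearGroup.val_det_apply, coe_torusHom,
    Matrix.det_fin_two_of]
  ring

/-- The scalar or not, trace and determinant. -/
theorem isConj_invariants {g h : G2} (hc : IsConj g h) :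
    (Linear.IsScalarTwo (g : M2) → g = h) ∧ (g : M2).trace = (h : M2).trace ∧
      (g : M2).det = (h : M2).det :=
  ⟨eq_of_isConj_of_isScalarTwo hc, trace_det_of_isConj hc⟩

variable [Fintype F] [DecidableEq F] [DecidableEq (MulChar F ℂ)]

theorem two_ne (hδ : ¬ IsSquare δ) : (2 : F) ≠ 0 := two_ne_zero' hδ

variable (hδ : ¬ IsSquare δ)

include hδ

theorem conj_uni_uni {a b : Fˣ}
    (h : IsConj ((splitHom (a, a) : G2) * uGL) (splitHom (b, b) * uGL)) : a = b := by
  rw [splitHom_diag_uGL, splitHom_diag_uGL] at h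
  have := (trace_det_of_isConj h).1
  simp [coe_upGL, Matrix.trace_fin_two] at this
  exact Units.ext (mul_left_cancel₀ (two_ne hδ) (by linear_combination this))

theorem not_conj_uni_split {a c d : Fˣ} (hcd : c ≠ d) :
    ¬ IsConj ((splitHom (a, a) : G2) * uGL) (splitHom (c, d)) := fun h => by
  rw [splitHom_diag_uGL] at h
  obtain ⟨ht, hd⟩ := trace_det_of_isConj h
  simp [coe_upGL, coe_splitHom, Matrix.trace_fin_two, Matrix.det_fin_two] at ht hd
  refine hcd (Units.ext (sub_eq_zero.1 (mul_self_eq_zero.1 ?_)))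
  linear_combination -((a : F) + a + c + d) * ht + 4 * hd

theorem not_conj_uni_torus {a : Fˣ} {z : (Quad δ)ˣ} (hz : (z : Quad δ).im ≠ 0) :
    ¬ IsConj ((splitHom (a, a) : G2) * uGL) (torusHom hδ z) := fun h => by
  rw [splitHom_diag_uGL] at h
  obtain ⟨ht, hd⟩ := trace_det_of_isConj h
  simp [coe_upGL, coe_torusHom, Matrix.trace_fin_two, Matrix.det_fin_two] at ht hd
  have hre : (a : F) = (z : Quad δ).re := mul_left_cancel₀ (two_ne hδ) (by linear_combination ht)
  have : δ * ((z : Quad δ).im * (z : Quad δ).im) = 0 := by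
    rw [hre] at hd; linear_combination hd
  rcases mul_eq_zero.1 this with e | e
  · exact hδ ⟨0, by rw [e, mul_zero]⟩
  · exact hz (mul_self_eq_zero.1 e)

theorem not_conj_split_torus {a b : Fˣ} {z : (Quad δ)ˣ} (hz : (z : Quad δ).im ≠ 0) :
    ¬ IsConj (splitHom (a, b) : G2) (torusHom hδ z) := fun h => by
  obtain ⟨ht, hd⟩ := trace_det_of_isConj h
  simp [coe_splitHom, coe_torusHom, Matrix.trace_fin_two, Matrix.det_fin_two] at ht hd
  refine hδ ⟨((a : F) - b) / (2 * (z : Quad δ).im), ?_⟩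
  have := two_ne hδ
  field_simp
  linear_combination (-((a : F) + b + 2 * (z : Quad δ).re)) * ht + 4 * hd

theorem conj_split_split {a b c d : Fˣ} (h : IsConj (splitHom (a, b) : G2) (splitHom (c, d))) :
    (a = c ∧ b = d) ∨ (a = d ∧ b = c) := by
  obtain ⟨ht, hd⟩ := trace_det_of_isConj h
  simp [coe_splitHom, Matrix.trace_fin_two, Matrix.det_fin_two] at ht hd
  rcases mul_eq_zero.1 (show ((a : F) - c) * ((a : F) - d) = 0 by
    linear_combination (a : F) * ht - hd) with e | e
  · exact Or.inl ⟨Units.ext (sub_eq_zero.1 e), Units.ext (by linear_combination ht - e)⟩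
  · exact Or.inr ⟨Units.ext (sub_eq_zero.1 e), Units.ext (by linear_combination ht - e)⟩

theorem conj_torus_torus {z w : (Quad δ)ˣ} (h : IsConj (torusHom hδ z) (torusHom hδ w)) :
    w = z ∨ w = conjUnit z := by
  obtain ⟨ht, hd⟩ := trace_det_of_isConj h
  simp [coe_torusHom, Matrix.trace_fin_two, Matrix.det_fin_two] at ht hd
  have hre : (w : Quad δ).re = (z : Quad δ).re :=
    mul_left_cancel₀ (two_ne hδ) (by linear_combination -ht)
  have hδ0 : δ ≠ 0 := fun e => hδ ⟨0, by rw [e, mul_zero]⟩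
  have him : (w : Quad δ).im * (w : Quad δ).im = (z : Quad δ).im * (z : Quad δ).im :=
    mul_left_cancel₀ hδ0 (by rw [hre] at hd; linear_combination hd)
  rcases mul_self_eq_mul_self_iff.1 him with e | e
  · exact Or.inl (Units.ext (QuadraticAlgebra.ext hre e))
  · exact Or.inr (Units.ext (QuadraticAlgebra.ext (by rw [hre, re_conjUnit])
      (by rw [e, im_conjUnit])))

theorem isConj_conjUnit (z : (Quad δ)ˣ) : IsConj (torusHom hδ z) (torusHom hδ (conjUnit z)) :=
  isConj_iff.2 ⟨H3.SDOrder.flip, by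
    rw [mul_inv_eq_iff_eq_mul, ← flip_conj hδ z, mul_assoc _ H3.SDOrder.flip,
      flip_mul_self, mul_one]⟩

theorem mem_range_scal {z : (Quad δ)ˣ} :
    z ∈ (scalUnit : Fˣ →* (Quad δ)ˣ).range ↔ (z : Quad δ).im = 0 :=
  ⟨by rintro ⟨a, rfl⟩; exact im_scalUnit a, fun h => exists_scalUnit_eq h⟩

theorem splitHom_inj : Function.Injective (splitHom : Fˣ × Fˣ →* G2) := fun p r h => by
  obtain ⟨a, b⟩ := p
  obtain ⟨c, d⟩ := r
  have h0 := congrArg (fun g : G2 => (g : M2) 0 0) h
  have h1 := congrArg (fun g : G2 => (g : M2) 1 1) h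
  simp [coe_splitHom] at h0 h1
  rw [Units.ext h0, Units.ext h1]

theorem center_splitHom (a : Fˣ) : (splitHom (a, a) : G2) ∈ Subgroup.center G2 := by
  rw [splitHom_diag]; exact scalarGL_mem_center a

theorem gl_classes (x : G2) : (∃ a, splitHom (a, a) = x) ∨
    (∃ a, IsConj (splitHom (a, a) * uGL) x) ∨
    (∃ a b, a ≠ b ∧ IsConj (splitHom (a, b)) x) ∨
    ∃ z, z ∉ (scalUnit : Fˣ →* (Quad δ)ˣ).range ∧ IsConj (torusHom hδ z) x := by
  obtain ⟨h, hc, h10 | ⟨z, hz, rfl⟩⟩ := exists_conj_rep hδ x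
  · by_cases he : (h : M2) 0 0 = (h : M2) 1 1
    · set a := Units.mk0 _ (entries_ne_zero h10).1
      by_cases h01 : (h : M2) 0 1 = 0
      · have e := upper_scalar h10 he h01
        refine Or.inl ⟨a, ?_⟩
        rw [splitHom_diag, ← e]
        exact eq_of_isConj_of_isScalarTwo hc ⟨h01, h10, he⟩
      · refine Or.inr (Or.inl ⟨a, IsConj.trans (isConj_of_trace_det ?_ ?_ ?_ ?_) hc⟩)
        · rw [splitHom_diag_uGL]; simp [Linear.IsScalarTwo, coe_upGL, a, (entries_ne_zero h10).1]
        · exact fun hs => h01 hs.1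
        · rw [splitHom_diag_uGL]; simp [coe_upGL, Matrix.trace_fin_two, a, ← he]
        · rw [splitHom_diag_uGL]; simp [coe_upGL, Matrix.det_fin_two, a, ← he, h10]
    · refine Or.inr (Or.inr (Or.inl ⟨Units.mk0 _ (entries_ne_zero h10).1,
        Units.mk0 _ (entries_ne_zero h10).2, fun e => he (congrArg Units.val e),
        IsConj.trans (isConj_of_trace_det ?_ ?_ ?_ ?_) hc⟩))
      · simp [Linear.IsScalarTwo, coe_splitHom, he]
      · exact fun hs => he hs.2.2
      · simp [coe_splitHom, Matrix.trace_fin_two]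
      · simp [coe_splitHom, Matrix.det_fin_two, h10]
  · exact Or.inr (Or.inr (Or.inr ⟨z, fun hr => hz ((mem_range_scal hδ).1 hr), hc⟩))

omit hδ in
theorem card_off_diag {X : Type*} [Fintype X] (r : X → Prop) [DecidablePred r] {u w : X}
    (huw : u ≠ w) (h : ∀ x, r x ↔ x = u ∨ x = w) :
    (∑ x, if r x then (1 : ℂ) else 0) = 2 := by
  classical
  have : (univ.filter r) = {u, w} := by ext x; simp [h]
  rw [sum_boole, this, card_pair huw]
  norm_num

variable [Fintype (Quad δ)ˣ]

omit hδ [Fintype (Quad δ)ˣ] in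
theorem ite_classInd {K : Type v} [Group K] {P : Prop} [Decidable P] (g x : K)
    [Decidable (¬ P ∧ IsConj g x)] :
    (if P then (0 : ℂ) else H83.classInd g x) = if ¬ P ∧ IsConj g x then 1 else 0 := by
  unfold H83.classInd
  by_cases hp : P
  · rw [if_pos hp, if_neg fun h => h.1 hp]
  · by_cases hq : IsConj g x
    · rw [if_neg hp, if_pos hq, if_pos ⟨hp, hq⟩]
    · rw [if_neg hp, if_neg hq, if_neg fun h => hq h.2]

omit hδ [Fintype (Quad δ)ˣ] in
theorem classInd_eq_zero {K : Type v} [Group K] {g x : K} (h : ¬ IsConj g x) :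
    H83.classInd g x = 0 := by unfold H83.classInd; exact if_neg h

omit hδ [Fintype (Quad δ)ˣ] in
theorem classInd_eq_one {K : Type v} [Group K] {g x : K} (h : IsConj g x) :
    H83.classInd g x = 1 := by unfold H83.classInd; exact if_pos h

theorem not_central_uni (a : Fˣ) : (splitHom (a, a) : G2) * uGL ∉ Subgroup.center G2 := fun h => by
  obtain ⟨b, hb⟩ := exists_scalar_of_central h
  rw [splitHom_diag_uGL] at hb
  have h0 := congrArg (fun g : G2 => (g : M2) 0 1) hb
  simp [coe_upGL, coe_scalarGL] at h0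
  exact a.ne_zero h0.symm

theorem not_central_split {a c : Fˣ} (hp : a ≠ c) :
    (splitHom (a, c) : G2) ∉ Subgroup.center G2 := fun h => by
  obtain ⟨b, hb⟩ := exists_scalar_of_central h
  have h0 := congrArg (fun g : G2 => (g : M2) 0 0) hb
  have h1 := congrArg (fun g : G2 => (g : M2) 1 1) hb
  simp [coe_splitHom, coe_scalarGL] at h0 h1
  exact hp (Units.ext (h0.symm.trans h1))

theorem not_central_torus {z : (Quad δ)ˣ} (hz : z ∉ (scalUnit : Fˣ →* (Quad δ)ˣ).range) :
    torusHom hδ z ∉ Subgroup.center G2 := fun h => by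
  obtain ⟨b, hb⟩ := exists_scalar_of_central h
  rw [← torusHom_scalUnit hδ] at hb
  exact hz ⟨b, torusHom_injective hδ hb⟩

theorem eq_of_conj_centre {g : G2} {a : Fˣ} (h : IsConj g (splitHom (a, a))) :
    g = splitHom (a, a) :=
  (eq_of_isConj_of_isScalarTwo h.symm (by simp [Linear.IsScalarTwo, coe_splitHom])).symm

theorem centre_of_conj {g : G2} {a : Fˣ} (h : IsConj g (splitHom (a, a))) :
    g ∈ Subgroup.center G2 := by
  rw [eq_of_conj_centre hδ h]; exact center_splitHom hδ a

open scoped Classical in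
/-- The weights away from the centre. -/
theorem weights_aux {g x : G2} (hg : g ∉ Subgroup.center G2) (hc : IsConj g x) (b : Fˣ) :
    (if x = splitHom (b, b) then (1 : ℂ) else 0) + H83.classInd (splitHom (b, b) * uGL) x =
      H83.classInd ((splitHom (b, b) : G2) * uGL) x := by
  rw [if_neg fun e => hg (centre_of_conj hδ (a := b) (by rw [← e]; exact hc)), zero_add]

open scoped Classical in
/-- The partition of the group. -/
theorem gl_weights (x : G2) :
    (∑ a : Fˣ, ((if x = splitHom (a, a) then (1 : ℂ) else 0) +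
        H83.classInd (splitHom (a, a) * uGL) x)) +
      (1 / 2) * (∑ p : Fˣ × Fˣ, if p.1 = p.2 then 0 else H83.classInd (splitHom p) x) +
      (1 / 2) * (∑ z : (Quad δ)ˣ, if z ∈ (scalUnit : Fˣ →* (Quad δ)ˣ).range then 0
        else H83.classInd (torusHom hδ z) x) = 1 := by
  rw [sum_congr rfl fun p (_ : p ∈ univ) => ite_classInd (P := p.1 = p.2) (splitHom p) x,
    sum_congr rfl fun z (_ : z ∈ univ) =>
      ite_classInd (P := z ∈ (scalUnit : Fˣ →* (Quad δ)ˣ).range) (torusHom hδ z) x]
  rcases gl_classes hδ x with ⟨a, rfl⟩ | ⟨a, hc⟩ | ⟨a, b, hab, hc⟩ | ⟨z, hz, hc⟩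
  · have e1 : ∀ b : Fˣ, (if (splitHom (a, a) : G2) = splitHom (b, b) then (1 : ℂ) else 0) +
        H83.classInd (splitHom (b, b) * uGL) (splitHom (a, a)) = if a = b then 1 else 0 := fun b => by
      rw [classInd_eq_zero fun h => not_central_uni hδ b (centre_of_conj hδ h), add_zero]
      by_cases hb : a = b
      · rw [if_pos hb, if_pos (by rw [hb])]
      · rw [if_neg hb, if_neg fun h => hb (Prod.ext_iff.1 (splitHom_inj hδ h)).1]
    have e2 : (∑ p : Fˣ × Fˣ, if ¬ p.1 = p.2 ∧ IsConj (splitHom p : G2) (splitHom (a, a)) then (1 : ℂ) else 0) = 0 :=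
      sum_eq_zero fun p _ => if_neg fun h => not_central_split hδ h.1 (centre_of_conj hδ h.2)
    have e3 : (∑ z : (Quad δ)ˣ, if ¬ z ∈ (scalUnit : Fˣ →* (Quad δ)ˣ).range ∧ IsConj (torusHom hδ z) (splitHom (a, a)) then (1 : ℂ) else 0) = 0 :=
      sum_eq_zero fun z _ => if_neg fun h => not_central_torus hδ h.1 (centre_of_conj hδ h.2)
    rw [e2, e3, sum_congr rfl fun b _ => e1 b, sum_ite_eq, if_pos (mem_univ _)]
    ring
  · have e1 : ∀ b : Fˣ, (if x = splitHom (b, b) then (1 : ℂ) else 0) +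
        H83.classInd (splitHom (b, b) * uGL) x = if b = a then 1 else 0 := fun b => by
      rw [weights_aux hδ (not_central_uni hδ a) hc]
      by_cases hb : b = a
      · rw [if_pos hb, classInd_eq_one (hb ▸ hc)]
      · rw [if_neg hb, classInd_eq_zero fun h => hb (conj_uni_uni hδ (h.trans hc.symm))]
    have e2 : (∑ p : Fˣ × Fˣ, if ¬ p.1 = p.2 ∧ IsConj (splitHom p : G2) x then (1 : ℂ) else 0) = 0 :=
      sum_eq_zero fun p _ => if_neg fun h => not_conj_uni_split hδ h.1 (hc.trans h.2.symm)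
    have e3 : (∑ z : (Quad δ)ˣ, if ¬ z ∈ (scalUnit : Fˣ →* (Quad δ)ˣ).range ∧ IsConj (torusHom hδ z) x then (1 : ℂ) else 0) = 0 :=
      sum_eq_zero fun z _ => if_neg fun h =>
        not_conj_uni_torus hδ (fun e => h.1 ((mem_range_scal hδ).2 e)) (hc.trans h.2.symm)
    rw [e2, e3, sum_congr rfl fun b _ => e1 b, sum_ite_eq', if_pos (mem_univ _)]
    ring
  · have e1 : ∀ c : Fˣ, (if x = splitHom (c, c) then (1 : ℂ) else 0) +
        H83.classInd (splitHom (c, c) * uGL) x = 0 := fun c => by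
      rw [weights_aux hδ (not_central_split hδ hab) hc,
        classInd_eq_zero fun h => not_conj_uni_split hδ hab (h.trans hc.symm)]
    have e3 : (∑ z : (Quad δ)ˣ, if ¬ z ∈ (scalUnit : Fˣ →* (Quad δ)ˣ).range ∧ IsConj (torusHom hδ z) x then (1 : ℂ) else 0) = 0 :=
      sum_eq_zero fun z _ => if_neg fun h =>
        not_conj_split_torus hδ (fun e => h.1 ((mem_range_scal hδ).2 e)) (hc.trans h.2.symm)
    rw [e3, sum_eq_zero fun c _ => e1 c, card_off_diag _ (u := (a, b)) (w := (b, a)) (by simp [hab]) fun p => ?_]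
    · ring
    refine ⟨fun h => ?_, ?_⟩
    · obtain ⟨c, d⟩ := p
      rcases conj_split_split hδ (h.2.trans hc.symm) with ⟨r, s⟩ | ⟨r, s⟩ <;> simp [r, s]
    · rintro (rfl | rfl)
      · exact ⟨hab, hc⟩
      · exact ⟨Ne.symm hab, (isConj_iff.2 ⟨exch, exch_splitHom b a⟩).trans hc⟩
  · have hz' : (z : Quad δ).im ≠ 0 := fun e => hz ((mem_range_scal hδ).2 e)
    have e1 : ∀ c : Fˣ, (if x = splitHom (c, c) then (1 : ℂ) else 0) +
        H83.classInd (splitHom (c, c) * uGL) x = 0 := fun c => by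
      rw [weights_aux hδ (not_central_torus hδ hz) hc,
        classInd_eq_zero fun h => not_conj_uni_torus hδ hz' (h.trans hc.symm)]
    have e2 : (∑ p : Fˣ × Fˣ, if ¬ p.1 = p.2 ∧ IsConj (splitHom p : G2) x then (1 : ℂ) else 0) = 0 :=
      sum_eq_zero fun p _ => if_neg fun h => not_conj_split_torus hδ hz' (h.2.trans hc.symm)
    rw [e2, sum_eq_zero fun c _ => e1 c, card_off_diag _ (u := z) (w := conjUnit z) (fun e => ?_) fun y => ?_]
    · ring
    · have := congrArg (fun w : (Quad δ)ˣ => (w : Quad δ).im) e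
      simp [im_conjUnit] at this
      exact hz' ((mul_eq_zero.1 (show (2 : F) * (z : Quad δ).im = 0 by
        linear_combination this)).resolve_left (two_ne hδ))
    refine ⟨fun h => conj_torus_torus hδ (hc.trans h.2.symm), ?_⟩
    rintro (rfl | rfl)
    · exact ⟨hz, hc⟩
    · exact ⟨fun h => hz' (by
        have := (mem_range_scal hδ).1 h
        simpa [im_conjUnit] using this), (isConj_conjUnit hδ z).symm.trans hc⟩

open scoped Classical in
theorem gl_sum_eq (f : G2 → ℂ) (hf : Cfsg.IsClassFunction G2 f) :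
    ∑ x : G2, f x = ∑ a : Fˣ, (f (splitHom (a, a)) +
        (((Fintype.card F : ℤ) : ℂ) ^ 2 - 1) * f (splitHom (a, a) * uGL)) +
      ((Fintype.card F : ℤ) : ℂ) * (((Fintype.card F : ℤ) : ℂ) + 1) / 2 *
        (∑ p : Fˣ × Fˣ, if p.1 = p.2 then 0 else f (splitHom p)) +
      ((Fintype.card F : ℤ) : ℂ) * (((Fintype.card F : ℤ) : ℂ) - 1) / 2 *
        (∑ z : (Quad δ)ˣ, if z ∈ (scalUnit : Fˣ →* (Quad δ)ˣ).range then 0
          else f (torusHom hδ z)) := by
  rw [sum_congr rfl fun x (_ : x ∈ univ) => (one_mul (f x)).symm]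
  conv_lhs =>
    arg 2
    ext x
    rw [← gl_weights hδ x]
  simp only [add_mul, sum_add_distrib, mul_assoc, sum_mul, mul_sum, ite_mul,
    one_mul, zero_mul, mul_ite, mul_zero]
  congr 1
  · congr 1
    · congr 1
      · rw [sum_comm]
        exact sum_congr rfl fun a _ => by rw [sum_ite_eq', if_pos (mem_univ _)]
      · rw [sum_comm]
        refine sum_congr rfl fun a _ => ?_
        rw [H83.sum_classInd_mul hf, H83.classSize_eq_index, splitHom_diag_uGL,
          index_upper_eq (by simp [coe_upGL]) (by simp [coe_upGL]) (by simp [coe_upGL]),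
          Nat.cast_mul, Nat.cast_sub Fintype.card_pos]
        push_cast
        ring
    · rw [sum_comm]
      refine sum_congr rfl fun p _ => ?_
      split_ifs with hp
      · simp
      · rw [← mul_sum, H83.sum_classInd_mul hf, H83.classSize_eq_index,
          index_upper_ne (by obtain ⟨a, b⟩ := p; simp [coe_splitHom]) (by
            obtain ⟨a, b⟩ := p
            simpa [coe_splitHom, ← Units.ext_iff] using hp)]
        push_cast
        ring
  · rw [sum_comm]
    refine sum_congr rfl fun z _ => ?_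
    split_ifs with hz
    · simp
    · rw [← mul_sum, H83.sum_classInd_mul hf, H83.classSize_eq_index,
        index_torus hδ (fun e => hz ((mem_range_scal hδ).2 e)), Nat.cast_mul,
        Nat.cast_sub Fintype.card_pos]
      push_cast
      ring

omit hδ [Fintype (Quad δ)ˣ] in
theorem ofUnitHom_inj {α β : Fˣ →* ℂˣ} (h : MulChar.ofUnitHom α = MulChar.ofUnitHom β) : α = β := by
  ext a
  have := congrArg (fun γ : MulChar F ℂ => γ (a : F)) h
  simpa using this

open scoped Classical in
set_option maxHeartbeats 1000000 in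
/-- The table of `GL₂(q)`. -/
noncomputable def glTable : Table G2 Fˣ (Quad δ)ˣ (Fintype.card F : ℤ) where
  σ := 1
  σ_pm := Or.inl rfl
  σ_Q := by have := Fintype.card_pos (α := F); omega
  odd_Q := (Int.odd_coe_nat _).2 (odd_card hδ)
  three_le := by
    have := Nat.odd_iff.1 (odd_card hδ)
    have := Fintype.one_lt_card (α := F)
    omega
  cyclicA := inferInstance
  cyclicB := isCyclic_quad hδ
  cardA := by
    rw [Nat.card_eq_fintype_card, Fintype.card_units, Nat.cast_sub Fintype.card_pos]; simp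
  cardB := by
    rw [card_quad hδ, Nat.cast_sub (Nat.one_le_pow _ _ Fintype.card_pos)]; simp
  incl := scalUnit
  norm := normHom hδ
  incl_injective := scalUnit_injective
  incl_norm z := by
    rw [_root_.zpow_add_one, zpow_natCast, ← conjUnit_eq_pow hδ]
    refine Units.ext (QuadraticAlgebra.ext ?_ ?_) <;>
      simp [re_scalUnit, im_scalUnit, re_conjUnit, im_conjUnit, normHom_val] <;> ring
  T := splitHom
  S := torusHom hδ
  T_injective := splitHom_inj hδ
  S_injective := torusHom_injective hδ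
  S_incl a := by rw [torusHom_scalUnit, splitHom_diag]
  T_center := center_splitHom hδ
  center_le x hx := by
    obtain ⟨a, rfl⟩ := exists_scalar_of_central hx
    exact ⟨a, splitHom_diag a⟩
  uni := uGL
  uni_ne h := by
    have := congrArg (fun g : G2 => (g : M2) 0 1) h
    simp [uGL, coe_upGL] at this
  uni_pow := by
    rw [Int.natAbs_natCast, uGL, upGL_pow, mul_one, FiniteField.cast_card_eq_zero, upGL_one]
  swapT := ⟨exch, exch_splitHom⟩
  frobS z := by rw [zpow_natCast, ← conjUnit_eq_pow hδ]; exact isConj_conjUnit hδ z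
  classes := gl_classes hδ
  sum_eq f hf := by convert gl_sum_eq hδ f hf
  lin α := linFun (MulChar.ofUnitHom α)
  st α := stFun (MulChar.ofUnitHom α)
  ps α β := prin (MulChar.ofUnitHom α) (MulChar.ofUnitHom β)
  cu θ := cusp hδ θ
  irr_lin α := isIrrCharacter_linFun _
  irr_st α := by simpa using isIrrCharacter_stFun (MulChar.ofUnitHom α)
  irr_ps α β h := by
    simpa using isIrrCharacter_prin (fun e => h (ofUnitHom_inj e))
  irr_cu θ h := by
    obtain ⟨y, hy⟩ := h
    simpa using isIrrCharacter_cusp hδ θ fun e => hy (by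
      rw [zpow_natCast, ← conjUnit_eq_pow hδ]
      exact DFunLike.congr_fun e y)
  lin_centre α a := by simp [linFun, coe_splitHom, Matrix.det_fin_two, map_mul]
  lin_uni α a := by simp [linFun, splitHom_diag_uGL, coe_upGL, Matrix.det_fin_two, map_mul]
  lin_T α a b _ := by simp [linFun, coe_splitHom, Matrix.det_fin_two, map_mul]
  lin_S α y _ := by
    rw [linFun, ← MulChar.ofUnitHom_coe α, normHom, MonoidHom.comp_apply,
      Matrix.GeneralLinearGroup.val_det_apply]
  st_centre α a := by rw [splitHom_diag, stFun_scalar]; simp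
  st_uni α a := by
    rw [splitHom_diag_uGL, stFun, Pi.sub_apply,
      prin_upper_eq _ _ (by simp [coe_upGL]) (by simp [coe_upGL]) (by simp [coe_upGL])]
    simp [linFun, coe_upGL, Matrix.det_fin_two, map_mul]
  st_T α a b hab := by
    rw [stFun, Pi.sub_apply, prin_diag _ _ (by simp [coe_splitHom]) (by simp [coe_splitHom])
      (by simpa [coe_splitHom, ← Units.ext_iff] using hab)]
    simp [linFun, coe_splitHom, Matrix.det_fin_two, map_mul]
    ring
  st_S α y hy := by
    rw [stFun, Pi.sub_apply,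
      prin_noEigen _ _ (noEigen_torus hδ fun e => hy ((mem_range_scal hδ).2 e)), zero_sub, linFun,
      ← MulChar.ofUnitHom_coe α, normHom, MonoidHom.comp_apply,
      Matrix.GeneralLinearGroup.val_det_apply]
  ps_centre α β a := by rw [splitHom_diag, prin_scalar]; simp
  ps_uni α β a := by
    rw [splitHom_diag_uGL,
      prin_upper_eq _ _ (by simp [coe_upGL]) (by simp [coe_upGL]) (by simp [coe_upGL])]
    simp [coe_upGL]
  ps_T α β a b hab := by
    rw [prin_diag _ _ (by simp [coe_splitHom]) (by simp [coe_splitHom])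
      (by simpa [coe_splitHom, ← Units.ext_iff] using hab)]
    simp [coe_splitHom]
  ps_S α β y hy := prin_noEigen _ _ (noEigen_torus hδ fun e => hy ((mem_range_scal hδ).2 e))
  cu_centre θ a := by rw [splitHom_diag, cusp_scalar, centChar_apply]; simp
  cu_uni θ a := by
    rw [splitHom_diag_uGL,
      cusp_upper_eq hδ θ (by simp [coe_upGL]) (by simp [coe_upGL]) (by simp [coe_upGL])]
    simp [coe_upGL, centChar_apply]
  cu_T θ a b hab := cusp_upper_ne hδ θ (by simp [coe_splitHom])
    (by simpa [coe_splitHom, ← Units.ext_iff] using hab)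
  cu_S θ y hy := by
    rw [cusp_torus hδ θ (fun e => hy ((mem_range_scal hδ).2 e)), zpow_natCast,
      ← conjUnit_eq_pow hδ]
  block M hM ψ := by
    have hfix : ∀ θ : (Quad δ)ˣ →* ℂˣ,
        (∃ y : (Quad δ)ˣ, θ (y ^ (Fintype.card F : ℤ)) ≠ θ y) ↔ θ.comp conjUnit ≠ θ := fun θ => by
      simp only [zpow_natCast, ← conjUnit_eq_pow hδ, ne_eq, MonoidHom.ext_iff,
        MonoidHom.comp_apply, not_forall]
    have ho : ∀ α : Fˣ →* ℂˣ, OddTriv α ↔ OddTrivChar (MulChar.ofUnitHom α) := fun α => by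
      simp [OddTriv, OddTrivChar, ← Units.val_eq_one]
    have hsurj : ∀ α : MulChar F ℂ, α = MulChar.ofUnitHom α.toUnitHom := fun α =>
      MulChar.ext fun a => by simp
    simp only [Int.cast_one, one_smul, hfix]
    constructor
    · intro hψ
      rcases principal_cases hδ hM hψ with ⟨α, hα, e⟩ | ⟨α, hα, e⟩ | ⟨α, β, hα, hβ, hne, e⟩ |
        ⟨θ, hθ, hf, e⟩
      · exact Or.inl ⟨α.toUnitHom, (ho _).2 (by rwa [← hsurj]), by rwa [← hsurj]⟩
      · exact Or.inr (Or.inl ⟨α.toUnitHom, (ho _).2 (by rwa [← hsurj]), by rwa [← hsurj]⟩)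
      · exact Or.inr (Or.inr (Or.inl ⟨α.toUnitHom, β.toUnitHom, (ho _).2 (by rwa [← hsurj]),
          (ho _).2 (by rwa [← hsurj]), fun h => hne (by rw [hsurj α, hsurj β, h]),
          by rwa [← hsurj, ← hsurj]⟩))
      · exact Or.inr (Or.inr (Or.inr ⟨θ, hθ, hf, e⟩))
    · rintro (⟨α, hα, e⟩ | ⟨α, hα, e⟩ | ⟨α, β, hα, hβ, hne, e⟩ | ⟨θ, hθ, hf, e⟩)
      · exact (Subtype.ext e : ψ = ⟨_, isIrrCharacter_linFun _⟩) ▸ linFun_mem hM ((ho _).1 hα)
      · exact (Subtype.ext e : ψ = ⟨_, isIrrCharacter_stFun _⟩) ▸ stFun_mem hδ hM ((ho _).1 hα)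
      · exact (Subtype.ext e : ψ = ⟨_, isIrrCharacter_prin fun h => hne (ofUnitHom_inj h)⟩) ▸
          prin_mem hδ hM ((ho _).1 hα) ((ho _).1 hβ) (fun h => hne (ofUnitHom_inj h))
      · exact (Subtype.ext e : ψ = ⟨_, isIrrCharacter_cusp hδ θ hf⟩) ▸ cusp_mem hδ hM hθ hf

end Cfsg.Agent.H36.TwoTori
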